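import Groth.Agent.EtCoh.K593.Pack
import Groth.Agent.EtCoh.K56.Loc

/-!
# The trace map of two-forms is nonzero on every affine open

* `span_omap2` : `Ω²(Γ(X ×_P V))` is generated over `Γ(V)` by the forms coming from `Γ(X ×_P U)`, `V → U` affine.
* `exists_ne_zero` : node TOR1 of `Plan593`.
-/

set_option autoImplicit false

universe u

open CategoryTheory CategoryTheory.Limits AlgebraicGeometry Opposite
open K611.Gam K611.Gam2 K611.Frame K611.Top K611.Sh K611.Seq K611.Seq2 K720.Sym K720.Tw K720.Nu K720.Lev1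
open K56.T4 K593.T3

noncomputable section

namespace K121.Tor1

/-- Induction on the elements of a pushout. -/
theorem pushout_induction {A B C E : CommRingCat.{u}} {f : A ⟶ B} {g : A ⟶ C} {h : B ⟶ E} {k : C ⟶ E}
    (H : IsPushout f g h k) {motive : E → Prop} (h0 : motive 0) (hadd : ∀ x y, motive x → motive y → motive (x + y))
    (hmul : ∀ b c, motive (k c * h b)) (e : E) : motive e := by
  algebraize [f.hom, g.hom, h.hom, k.hom, (f ≫ h).hom]
  have hs1 : IsScalarTower A B E := .of_algebraMap_eq' rfl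
  have hs2 : IsScalarTower A C E := .of_algebraMap_eq' (congrArg CommRingCat.Hom.hom H.w)
  have h1 : Algebra.IsPushout A C B E := (CommRingCat.isPushout_iff_isPushout.1 H.flip)
  suffices hh : ∀ c : C, motive (k c * e) by
    have := hh 1
    rwa [map_one, one_mul] at this
  refine h1.out.inductionOn e (motive := fun e => ∀ c : C, motive (k c * e)) ?_ ?_ ?_ ?_
  · intro c
    rw [mul_zero]
    exact h0
  · intro b c
    exact hmul b c
  · intro c' e he c
    have : k c * (c' • e) = k (c * c') * e := by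
      rw [map_mul, mul_assoc]
      rfl
    rw [this]
    exact he _
  · intro e e' he he' c
    rw [mul_add]
    exact hadd _ _ (he c) (he' c)

variable {P X : Scheme.{u}} (r : X ⟶ P)

theorem bc_map_fst {U V : P.Etale} (g : V ⟶ U) :
    ((EtCoh.bc r).map g).left ≫ pullback.fst U.hom r = pullback.fst V.hom r ≫ g.left :=
  pullback.lift_fst _ _ _

theorem bc_map_snd {U V : P.Etale} (g : V ⟶ U) :
    ((EtCoh.bc r).map g).left ≫ pullback.snd U.hom r = pullback.snd V.hom r :=
  pullback.lift_snd _ _ _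

/-- Cancellation of pullback squares with given composites. -/
theorem isPullback_gen {A B C D E F : Scheme.{u}} {m : A ⟶ B} {s : B ⟶ E} {s' : A ⟶ E} (hs : m ≫ s = s')
    {f₁ : A ⟶ C} {f₂ : B ⟶ D} {g : C ⟶ D} {b : D ⟶ F} {a : C ⟶ F} (hg : g ≫ b = a) {r : E ⟶ F}
    (h₁ : IsPullback s' f₁ r a) (h₂ : IsPullback s f₂ r b) (hm : m ≫ f₂ = f₁ ≫ g) : IsPullback m f₁ f₂ g := by
  subst hs hg
  exact IsPullback.of_right h₁ hm h₂

/-- The cartesian square `X ×_P V → X ×_P U`, `V → U`. -/
theorem isPullback_bc {U V : P.Etale} (g : V ⟶ U) :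
    IsPullback ((EtCoh.bc r).map g).left (pullback.fst V.hom r) (pullback.fst U.hom r) g.left :=
  isPullback_gen (bc_map_snd r g) (MorphismProperty.Over.w g : g.left ≫ U.hom = V.hom)
    (IsPullback.of_hasPullback V.hom r).flip (IsPullback.of_hasPullback U.hom r).flip (bc_map_fst r g)

theorem isAffine_bc [IsIntegralHom r] (V : P.Etale) (hV : IsAffine V.left) : IsAffine ((EtCoh.bc r).obj V).left := by
  have h1 : IsAffineHom (pullback.fst V.hom r) := MorphismProperty.pullback_fst _ _ (inferInstance : IsAffineHom r)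
  have h2 : IsAffine ((𝟭 Scheme.{u}).obj V.left) := hV
  exact @isAffine_of_isAffineHom _ _ (pullback.fst V.hom r) h1 h2

/-- Induction on the elements of a base change. -/
theorem isBC_induction {A B : Type*} [CommRing A] [CommRing B] {φ : A →+* B} {M M' : Type*} [AddCommGroup M]
    [AddCommGroup M'] [Module A M] [Module B M'] {ψ : M →+ M'} (h : Groth.Agent.Etbase.FFExact.IsBC φ ψ)
    {motive : M' → Prop} (h0 : motive 0) (hadd : ∀ x y, motive x → motive y → motive (x + y))
    (hmul : ∀ (b : B) (x : M), motive (b • ψ x)) (y : M') : motive y := by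
  obtain ⟨h1, h2⟩ := h
  let : Algebra A B := φ.toAlgebra
  let : Module A M' := Module.compHom M' φ
  have : IsScalarTower A B M' := ⟨fun a b m => by
      change (φ a * b) • m = φ a • b • m
      rw [mul_smul]⟩
  suffices hh : ∀ b : B, motive (b • y) by
    have := hh 1
    rwa [one_smul] at this
  refine IsBaseChange.inductionOn h2 y (motive := fun η => ∀ b : B, motive (b • η)) ?_ ?_ ?_ ?_
  · intro b
    rw [smul_zero]
    exact h0
  · intro x b
    exact hmul b x
  · intro c η hη b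
    rw [← mul_smul]
    exact hη _
  · intro η η' hη hη' b
    rw [smul_add]
    exact hadd _ _ (hη b) (hη' b)

/-- `Ω²(Γ(X ×_P V))` is generated over `Γ(V)` by the forms coming from `Γ(X ×_P U)`. -/
theorem span_omap2 [IsIntegralHom r] {U V : P.Etale} (g : V ⟶ U) (hU : IsAffine U.left) (hV : IsAffine V.left)
    {motive : Om2 (RB r V) → Prop} (h0 : motive 0) (hadd : ∀ x y, motive x → motive y → motive (x + y))
    (hmul : ∀ (a : Γ(V.left, ⊤)) (x : Om2 (RB r U)), motive (sb' r V a • omap2 (rb r g) x)) (η : Om2 (RB r V)) :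
    motive η := by
  have hU' : IsAffine (pullback U.hom r) := isAffine_bc r U hU
  have hV' := isAffine_bc r V hV
  have hU1 : IsAffine ((𝟭 Scheme.{u}).obj U.left) := hU
  have hpo : IsPushout (pullback.fst U.hom r).appTop g.left.appTop ((EtCoh.bc r).map g).left.appTop
      (pullback.fst V.hom r).appTop := isPushout_appTop_of_isPullback (isPullback_bc r g)
  have het : (rb r g).Etale := K611.Zar.etale_appTop ((EtCoh.bc r).map g) hV' hU'
  have hbc := isBC_omap2 (rb r g) het
  refine isBC_induction hbc h0 hadd (fun b x => ?_) η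
  refine pushout_induction hpo (motive := fun b => motive (b • omap2 (rb r g) x)) ?_ ?_ ?_ b
  · change motive ((0 : RB r V) • omap2 (rb r g) x)
    rw [zero_smul]
    exact h0
  · intro b b' hb hb'
    have : (b + b') • omap2 (rb r g) x = b • omap2 (rb r g) x + b' • omap2 (rb r g) x := add_smul _ _ _
    rw [this]
    exact hadd _ _ hb hb'
  · intro b c
    let b' : RB r U := b
    have : (sb' r V c * rb r g b') • omap2 (rb r g) x = sb' r V c • omap2 (rb r g) (b' • x) := by
      rw [hbc.1, ← mul_smul]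
    change motive ((sb' r V c * rb r g b') • omap2 (rb r g) x)
    rw [this]
    exact hmul _ _

/-- **Node TOR1**, for any target operator. -/
theorem exists_ne_zero' {p N : ℕ} [Fact p.Prime] [IsIntegralHom r] [Surjective r] (h : (p : Γ(X, ⊤)) = 0)
    {S : sh Om2F P ⟶ sh Om2F P} (K : TrPack r p N h (sh Om2F P) S)
    (hK : ∀ V (hV : K.Bs V), ∃ TR₀ : Om2 (RB r V) →+ Om2 Γ(V.left, ⊤), (∀ η, K.TR V hV η = un Om2F V (TR₀ η)) ∧
        (∀ a η, TR₀ (sb' r V a • η) = a • TR₀ η) ∧ (Nontrivial (RB r V) → TR₀ ≠ 0))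
    (t : (EtCoh.push r).obj (sh Om2F X) ⟶ sh Om2F P)
    (ht : ∀ V hV η, t.hom.app (op V) (un Om2F ((EtCoh.bc r).obj V) η) = K.TR V hV η)
    (O : P.Opens) (hO : IsAffineOpen O) (hne : (O : Set P).Nonempty) :
    ∃ s : EtCoh.sect ((EtCoh.push r).obj (sh Om2F X)) (ob O), t.hom.app (op (ob O)) s ≠ 0 := by
  by_contra hcon
  push Not at hcon
  obtain ⟨x, hx⟩ := hne
  obtain ⟨V, g, v, -, hV⟩ := K.bas (ob O) (⟨x, hx⟩ : (O : Scheme.{u}))
  have hVa := K.aff V hV
  have hOa : IsAffine (ob O).left := hO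
  have hnt : Nontrivial (RB r V) := by
    obtain ⟨y, -⟩ := (pullback.fst V.hom r).surjective v
    have : Nonempty ((EtCoh.bc r).obj V).left := ⟨y⟩
    have hn : Nonempty (⊤ : ((EtCoh.bc r).obj V).left.Opens) := ⟨⟨y, trivial⟩⟩
    exact Scheme.component_nontrivial _ ⊤
  obtain ⟨T, h1, h2, h3⟩ := hK V hV
  refine h3 hnt ?_
  ext η : 1
  refine span_omap2 r g hOa hVa (motive := fun η => T η = 0) (map_zero T) (fun x y hx hy => ?_) (fun a x => ?_) η
  · rw [map_add, hx, hy, add_zero]
  · rw [h2]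
    have e0 : T (omap2 (rb r g) x) = 0 := by
      apply (K56.T4.Sec.un_bijective V hVa).1
      rw [← h1, ← ht]
      have e1 := hcon (un Om2F ((EtCoh.bc r).obj (ob O)) x)
      have e2 := ConcreteCategory.congr_hom (t.hom.naturality g.op) (un Om2F ((EtCoh.bc r).obj (ob O)) x)
      have e3 : un Om2F ((EtCoh.bc r).obj V) (omap2 (rb r g) x) =
          (sh Om2F X).obj.map ((EtCoh.bc r).map g).op (un Om2F ((EtCoh.bc r).obj (ob O)) x) :=
        un_res Om2F ((EtCoh.bc r).map g) x
      rw [e3]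
      refine Eq.trans e2 ?_
      change (sh Om2F P).obj.map g.op (t.hom.app (op (ob O)) _) = _
      rw [e1, map_zero]
      exact (map_zero (un Om2F V)).symm
    rw [e0, smul_zero]

/-- The trace map of two-forms over an affine `O`: it is `Γ(O)`-linear and nonzero. -/
theorem exists_T {p N : ℕ} [Fact p.Prime] [IsIntegralHom r] [Surjective r] (h : (p : Γ(X, ⊤)) = 0)
    {S : sh Om2F P ⟶ sh Om2F P} (K : TrPack r p N h (sh Om2F P) S)
    (hK : ∀ V (hV : K.Bs V), ∃ TR₀ : Om2 (RB r V) →+ Om2 Γ(V.left, ⊤), (∀ η, K.TR V hV η = un Om2F V (TR₀ η)) ∧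
        (∀ a η, TR₀ (sb' r V a • η) = a • TR₀ η) ∧ (Nontrivial (RB r V) → TR₀ ≠ 0))
    (t : (EtCoh.push r).obj (sh Om2F X) ⟶ sh Om2F P)
    (ht : ∀ V hV η, t.hom.app (op V) (un Om2F ((EtCoh.bc r).obj V) η) = K.TR V hV η)
    (U : P.Etale) (hU : IsAffine U.left) :
    ∃ T : Om2 (RB r U) →+ Om2 Γ(U.left, ⊤),
      (∀ η, t.hom.app (op U) (un Om2F ((EtCoh.bc r).obj U) η) = un Om2F U (T η)) ∧
      (∀ a η, T (sb' r U a • η) = a • T η) ∧
      (∀ s : EtCoh.sect ((EtCoh.push r).obj (sh Om2F X)) U, ∃ η, un Om2F ((EtCoh.bc r).obj U) η = s) ∧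
      (Nonempty U.left → T ≠ 0) := by
  have hb := K56.T4.Sec.un_bijective U hU
  have hb' := K56.T4.Sec.un_bijective ((EtCoh.bc r).obj U) (isAffine_bc r U hU)
  obtain ⟨T, hT⟩ : ∃ T : Om2 (RB r U) → Om2 Γ(U.left, ⊤), ∀ η : Om2 (RB r U),
      un Om2F U (T η) = t.hom.app (op U) (un Om2F ((EtCoh.bc r).obj U) η) :=
    ⟨fun η => (hb.2 (t.hom.app (op U) (un Om2F ((EtCoh.bc r).obj U) η))).choose,
      fun η => (hb.2 (t.hom.app (op U) (un Om2F ((EtCoh.bc r).obj U) η))).choose_spec⟩
  have hadd : ∀ η η', T (η + η') = T η + T η' := by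
    intro η η'
    apply hb.1
    refine (hT _).trans (Eq.trans ?_ (map_add (un Om2F U) (T η) (T η')).symm)
    refine Eq.trans ?_ (congrArg₂ (fun x y => x + y) (hT η).symm (hT η').symm)
    refine (congrArg (t.hom.app (op U)) (map_add (un Om2F ((EtCoh.bc r).obj U)) η η')).trans ?_
    exact map_add (t.hom.app (op U)).hom _ _
  let T' : Om2 (RB r U) →+ Om2 Γ(U.left, ⊤) := AddMonoidHom.mk' T hadd
  -- restriction to a member of the basis
  have key : ∀ (V : P.Etale) (hV : K.Bs V) (g : V ⟶ U) (η : Om2 (RB r U)),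
      un Om2F V (omap2 g.left.appTop.hom (T η)) = K.TR V hV (omap2 (rb r g) η) := by
    intro V hV g η
    have e2 := ConcreteCategory.congr_hom (t.hom.naturality g.op) (un Om2F ((EtCoh.bc r).obj U) η)
    have e3 : un Om2F ((EtCoh.bc r).obj V) (omap2 (rb r g) η) =
        (sh Om2F X).obj.map ((EtCoh.bc r).map g).op (un Om2F ((EtCoh.bc r).obj U) η) :=
      un_res Om2F ((EtCoh.bc r).map g) η
    rw [← ht, e3]
    refine Eq.trans ?_ e2.symm
    change _ = (sh Om2F P).obj.map g.op (t.hom.app (op U) _)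
    rw [← hT]
    exact un_res Om2F g (T η)
  have hsb : ∀ (V : P.Etale) (g : V ⟶ U) (a : Γ(U.left, ⊤)), rb r g (sb' r U a) = sb' r V (g.left.appTop a) := by
    intro V g a
    have := congr($(congrArg (fun k : pullback V.hom r ⟶ U.left => k.appTop) (bc_map_fst r g)) a)
    exact this
  refine ⟨T', fun η => (hT η).symm, fun a η => ?_, fun s => hb'.2 s, fun hne => ?_⟩
  · -- linearity
    apply hb.1
    refine K56.T4.Base.sect_ext K.bas (sh Om2F P) U _ _ fun V hV g => ?_
    obtain ⟨T₀, h1, h2, -⟩ := hK V hV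
    have hVa := K.aff V hV
    have i1 := un_res Om2F g (T' (sb' r U a • η))
    have i2 := un_res Om2F g (a • T' η)
    rw [← i1, ← i2]
    change un Om2F V (omap2 g.left.appTop.hom (T (sb' r U a • η))) = un Om2F V (omap2 g.left.appTop.hom (a • T η))
    rw [omap2_smul, key V hV, omap2_smul, hsb, h1, h2]
    have e4 : T₀ (omap2 (rb r g) η) = omap2 g.left.appTop.hom (T η) := by
      apply (K56.T4.Sec.un_bijective V hVa).1
      rw [key V hV, h1]
    rw [e4]
  · -- nonzero
    obtain ⟨x⟩ := hne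
    obtain ⟨V, g, v, -, hV⟩ := K.bas U x
    obtain ⟨T₀, h1, h2, h3⟩ := hK V hV
    have hVa := K.aff V hV
    have hnt : Nontrivial (RB r V) := by
      obtain ⟨y, -⟩ := (pullback.fst V.hom r).surjective v
      have : Nonempty ((EtCoh.bc r).obj V).left := ⟨y⟩
      have hn : Nonempty (⊤ : ((EtCoh.bc r).obj V).left.Opens) := ⟨⟨y, trivial⟩⟩
      exact Scheme.component_nontrivial _ ⊤
    intro hT0
    refine h3 hnt ?_
    ext η : 1
    refine span_omap2 r g hU hVa (motive := fun η => T₀ η = 0) (map_zero T₀) (fun x y hx hy => ?_) (fun a x => ?_) η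
    · rw [map_add, hx, hy, add_zero]
    · rw [h2]
      have e0 : T₀ (omap2 (rb r g) x) = 0 := by
        apply (K56.T4.Sec.un_bijective V hVa).1
        rw [← h1, ← key V hV]
        have : T x = 0 := DFunLike.congr_fun hT0 x
        rw [this]
        exact congrArg (un Om2F V) (map_zero (omap2 g.left.appTop.hom))
      rw [e0, smul_zero]

/-- **Node TOR1** of `Plan593`. -/
theorem exists_ne_zero {W : Type u} [CommRing W] (D : P2 P W) {p N : ℕ} [hp : Fact p.Prime] {k : Type u}
    [Field k] (B : WB p N k W) (hB : B.HasTor) [IsIntegralHom r] [Surjective r] (h : (p : Γ(X, ⊤)) = 0)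
    (K : TrPack r p N h (sh Om2F P) (D.S hB))
    (hK : ∀ V (hV : K.Bs V), ∃ TR₀ : Om2 (RB r V) →+ Om2 Γ(V.left, ⊤), (∀ η, K.TR V hV η = un Om2F V (TR₀ η)) ∧
        (∀ a η, TR₀ (sb' r V a • η) = a • TR₀ η) ∧ (Nontrivial (RB r V) → TR₀ ≠ 0))
    (t : (EtCoh.push r).obj (sh Om2F X) ⟶ sh Om2F P)
    (ht : ∀ V hV η, t.hom.app (op V) (un Om2F ((EtCoh.bc r).obj V) η) = K.TR V hV η)
    (O : P.Opens) (hO : IsAffineOpen O) (hne : (O : Set P).Nonempty) :
    ∃ s : EtCoh.sect ((EtCoh.push r).obj (sh Om2F X)) (ob O), t.hom.app (op (ob O)) s ≠ 0 :=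
  exists_ne_zero' r h K hK t ht O hO hne

end K121.Tor1
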